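import Mathlib.GroupTheory.GroupAction.Basic
import Mathlib.Algebra.Group.Subgroup.Pointwise
import Mathlib.Data.Set.Card
import Mathlib.Data.Nat.Factorial.Basic
import Mathlib.Tactic

/-!
The coset bound for the Moore–Carmichael relations of the alternating groups.
-/

namespace CfsgLib.Present

variable {G : Type*} [Group G]

/-- `chain x l j = x_{l+j-1} ⋯ x_{l+1} x_l` (with `j` factors). -/
def chain (x : ℕ → G) : ℕ → ℕ → G
  | _, 0 => 1
  | l, j + 1 => chain x (l + 1) j * x l

theorem chain_succ_left (x : ℕ → G) (l j : ℕ) : chain x l (j + 1) = x (l + j) * chain x l j := by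
  induction j generalizing l with
  | zero => simp [chain]
  | succ j ih =>
    rw [show chain x l (j + 1 + 1) = chain x (l + 1) (j + 1) * x l from rfl, ih,
      show chain x l (j + 1) = chain x (l + 1) j * x l from rfl, mul_assoc,
      show l + 1 + j = l + (j + 1) by omega]

theorem chain_add (x : ℕ → G) (l a b : ℕ) : chain x l (a + b) = chain x (l + a) b * chain x l a := by
  induction b with
  | zero => simp [chain]
  | succ b ih => rw [← add_assoc, chain_succ_left, ih, chain_succ_left, mul_assoc,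
      show l + (a + b) = l + a + b by omega]

/-- Relations of Moore–Carmichael type on `x 0, …, x (N-1)`. -/
structure AltRel (x : ℕ → G) (N : ℕ) : Prop where
  cube : 0 < N → x 0 ^ 3 = 1
  sq : ∀ i, 1 ≤ i → i < N → x i * x i = 1
  braid : ∀ i, i + 1 < N → (x i * x (i + 1)) ^ 3 = 1
  far : ∀ i j, i + 1 < j → j < N → (x i * x j) ^ 2 = 1

namespace AltRel

variable {x : ℕ → G} {N : ℕ} (h : AltRel x N)
include h

theorem inv_eq {i : ℕ} (h1 : 1 ≤ i) (h2 : i < N) : (x i)⁻¹ = x i := inv_eq_of_mul_eq_one_right (h.sq i h1 h2)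

theorem comm {i j : ℕ} (h1 : 1 ≤ i) (hij : i + 1 < j ∨ j + 1 < i) (hj1 : 1 ≤ j) (hi : i < N) (hj : j < N) :
    x i * x j = x j * x i := by
  rcases hij with h0 | h0
  · have := eq_inv_of_mul_eq_one_left (a := x i * x j) (by rw [← pow_two]; exact h.far i j h0 hj)
    rwa [mul_inv_rev, h.inv_eq h1 hi, h.inv_eq hj1 hj] at this
  · have := eq_inv_of_mul_eq_one_left (a := x j * x i) (by rw [← pow_two]; exact h.far j i h0 hi)
    rw [mul_inv_rev, h.inv_eq h1 hi, h.inv_eq hj1 hj] at this
    exact this.symm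

theorem flip_zero {j : ℕ} (hj1 : 2 ≤ j) (hj : j < N) : x j * x 0 = (x 0)⁻¹ * x j := by
  have h0 := h.far 0 j (by omega) hj
  rw [pow_two] at h0
  have h1 := eq_inv_of_mul_eq_one_left (a := x 0 * x j) h0
  rw [mul_inv_rev, h.inv_eq (by omega) hj] at h1
  calc x j * x 0 = (x 0)⁻¹ * (x 0 * x j) * x 0 := by group
    _ = (x 0)⁻¹ * (x j * (x 0)⁻¹) * x 0 := by rw [h1]
    _ = (x 0)⁻¹ * x j := by group

theorem flip_zero_inv {j : ℕ} (hj1 : 2 ≤ j) (hj : j < N) : x j * (x 0)⁻¹ = x 0 * x j := by
  have h1 := h.flip_zero hj1 hj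
  calc x j * (x 0)⁻¹ = x 0 * ((x 0)⁻¹ * x j) * (x 0)⁻¹ := by group
    _ = x 0 * (x j * x 0) * (x 0)⁻¹ := by rw [h1]
    _ = x 0 * x j := by group

theorem braid' {i : ℕ} (h1 : 1 ≤ i) (hi : i + 1 < N) :
    x (i + 1) * x i * x (i + 1) = x i * x (i + 1) * x i := by
  have h0 := h.braid i hi
  have e1 := h.inv_eq h1 (by omega)
  have e2 := h.inv_eq (by omega : 1 ≤ i + 1) hi
  have h2 : (x i * x (i + 1) * x i) * (x (i + 1) * x i * x (i + 1)) = 1 := by
    rw [← h0, pow_succ, pow_two]; group
  have h3 := eq_inv_of_mul_eq_one_right h2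
  rw [mul_inv_rev, mul_inv_rev, e1, e2, ← mul_assoc] at h3
  exact h3

theorem braid_zero (hN : 1 < N) : x 1 * x 0 * x 1 = (x 0)⁻¹ * x 1 * (x 0)⁻¹ := by
  have h0 := h.braid 0 hN
  have e1 := h.inv_eq le_rfl hN
  have h2 : (x 0 * x 1 * x 0) * (x 1 * x 0 * x 1) = 1 := by
    rw [← h0, pow_succ, pow_two]; group
  have h3 := eq_inv_of_mul_eq_one_right h2
  rw [mul_inv_rev, mul_inv_rev, e1, ← mul_assoc] at h3
  exact h3

theorem chain_comm {l j i : ℕ} (hi1 : 1 ≤ i) (hil : i + 1 < l) (hlj : l + j ≤ N) :
    chain x l j * x i = x i * chain x l j := by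
  induction j generalizing l with
  | zero => simp [chain]
  | succ j ih =>
    change chain x (l + 1) j * x l * x i = x i * (chain x (l + 1) j * x l)
    rw [mul_assoc, h.comm (j := i) (i := l) (by omega) (Or.inr hil) hi1 (by omega) (by omega), ← mul_assoc,
      ih (by omega) (by omega), mul_assoc]

theorem chain_comm' {l j i : ℕ} (hl : 1 ≤ l) (hil : l + j < i) (hi : i < N) :
    chain x l j * x i = x i * chain x l j := by
  induction j generalizing l with
  | zero => simp [chain]
  | succ j ih =>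
    change chain x (l + 1) j * x l * x i = x i * (chain x (l + 1) j * x l)
    rw [mul_assoc, h.comm (j := i) (i := l) hl (Or.inl (by omega)) (by omega) (by omega) hi, ← mul_assoc,
      ih (by omega) (by omega), mul_assoc]

theorem chain_zero_mem {l j : ℕ} (hl : 2 ≤ l) (hlj : l + j ≤ N) :
    ∃ e : G, (e = x 0 ∨ e = (x 0)⁻¹) ∧ chain x l j * x 0 = e * chain x l j ∧
      chain x l j * (x 0)⁻¹ = e⁻¹ * chain x l j := by
  induction j generalizing l with
  | zero => exact ⟨x 0, Or.inl rfl, by simp [chain], by simp [chain]⟩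
  | succ j ih =>
    obtain ⟨e, he, h1, h2⟩ := ih (l := l + 1) (by omega) (by omega)
    refine ⟨e⁻¹, by rcases he with rfl | rfl <;> simp, ?_, ?_⟩
    · change chain x (l + 1) j * x l * x 0 = e⁻¹ * (chain x (l + 1) j * x l)
      rw [mul_assoc, h.flip_zero hl (by omega), ← mul_assoc, h2, mul_assoc]
    · change chain x (l + 1) j * x l * (x 0)⁻¹ = e⁻¹⁻¹ * (chain x (l + 1) j * x l)
      rw [mul_assoc, h.flip_zero_inv hl (by omega), ← mul_assoc, h1, inv_inv, mul_assoc]

/-- the middle of a chain moves past a generator -/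
theorem chain_mid {l j i : ℕ} (hl : 1 ≤ l) (hli : l < i) (hij : i < l + j) (hlj : l + j ≤ N) :
    chain x l j * x i = x (i - 1) * chain x l j := by
  obtain ⟨i, rfl⟩ : ∃ k, i = k + 1 := ⟨i - 1, by omega⟩
  rw [Nat.add_sub_cancel]
  obtain ⟨a, ha⟩ : ∃ a, i = l + a := ⟨i - l, by omega⟩
  obtain ⟨b, rfl⟩ : ∃ b, j = a + (2 + b) := ⟨j - a - 2, by omega⟩
  subst ha
  rw [chain_add, chain_add x (l + a) 2 b,
    show chain x (l + a) 2 = x (l + a + 1) * x (l + a) by simp [chain]]
  simp only [mul_assoc]
  rw [h.chain_comm' hl (by omega) (by omega)]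
  simp only [← mul_assoc]
  rw [mul_assoc (chain x (l + a + 2) b) (x (l + a + 1)) (x (l + a)),
    mul_assoc (chain x (l + a + 2) b) _ (x (l + a + 1)), h.braid' (by omega) (by omega)]
  simp only [← mul_assoc]
  rw [h.chain_comm (by omega) (by omega) (by omega)]

end AltRel

/-- the subgroup generated by the first `k` generators -/
def firstGen (x : ℕ → G) (k : ℕ) : Subgroup G := Subgroup.closure (x '' {i | i < k})

theorem mem_firstGen (x : ℕ → G) {i k : ℕ} (hi : i < k) : x i ∈ firstGen x k :=
  Subgroup.subset_closure ⟨i, hi, rfl⟩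

/-- coset representatives for the first `m` generators inside the first `m + 1` -/
def altReps (x : ℕ → G) (m : ℕ) : Set G :=
  (fun j => chain x (m + 1 - j) j) '' {j | j ≤ m} ∪
    ({chain x 1 m * x 0, chain x 1 m * (x 0)⁻¹} : Set G)

theorem altReps_closed {x : ℕ → G} {N m : ℕ} (h : AltRel x N) (hm : m < N) {c g : G}
    (hc : c ∈ altReps x m) (hg : g ∈ x '' {i | i < m + 1} ∨ g⁻¹ ∈ x '' {i | i < m + 1}) :
    ∃ k ∈ firstGen x m, ∃ c' ∈ altReps x m, c * g = k * c' := by
  have hN : 0 < N := by omega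
  have h3 : x 0 * x 0 = (x 0)⁻¹ := by
    have := h.cube hN
    rw [pow_succ, pow_two] at this
    exact eq_inv_of_mul_eq_one_left this
  have hlast : ∀ d : G, d = x 0 ∨ d = (x 0)⁻¹ → chain x 1 m * d ∈ altReps x m := by
    rintro d (rfl | rfl) <;> simp [altReps]
  have hjmem : ∀ j, j ≤ m → chain x (m + 1 - j) j ∈ altReps x m := fun j hj => Or.inl ⟨j, hj, rfl⟩
  have hinv3 : (x 0)⁻¹ * (x 0)⁻¹ = x 0 := by rw [← mul_inv_rev, h3, inv_inv]
  -- reduce to generators and the inverse of the first one
  obtain ⟨i, hi, hgi⟩ : ∃ i < m + 1, g = x i ∨ (i = 0 ∧ g = (x 0)⁻¹) := by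
    rcases hg with ⟨i, hi, rfl⟩ | ⟨i, hi, hgi⟩
    · exact ⟨i, hi, Or.inl rfl⟩
    · refine ⟨i, hi, ?_⟩
      have : g = (x i)⁻¹ := by rw [hgi, inv_inv]
      rcases Nat.eq_zero_or_pos i with rfl | hi0
      · exact Or.inr ⟨rfl, this⟩
      · exact Or.inl (this.trans (h.inv_eq hi0 (by simp only [Set.mem_setOf_eq] at hi; omega)))
  rcases hc with ⟨j, hj, rfl⟩ | hc
  · simp only [Set.mem_setOf_eq] at hj
    beta_reduce
    rcases hgi with rfl | ⟨rfl, rfl⟩
    · rcases Nat.eq_zero_or_pos i with rfl | hi0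
      · by_cases hjm : j = m
        · subst hjm
          refine ⟨1, one_mem _, _, hlast _ (Or.inl rfl), ?_⟩
          simp
        · obtain ⟨e, he, h1, -⟩ := h.chain_zero_mem (l := m + 1 - j) (j := j) (by omega) (by omega)
          refine ⟨e, ?_, _, hjmem j hj, h1⟩
          rcases he with rfl | rfl
          · exact mem_firstGen x (by omega)
          · exact inv_mem (mem_firstGen x (by omega))
      · by_cases hlt : i + 1 < m + 1 - j
        · exact ⟨x i, mem_firstGen x (by omega), _, hjmem j hj, h.chain_comm hi0 hlt (by omega)⟩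
        · by_cases he1 : i + 1 = m + 1 - j
          · refine ⟨1, one_mem _, _, hjmem (j + 1) (by omega), ?_⟩
            rw [one_mul, show m + 1 - (j + 1) = i by omega, show m + 1 - j = i + 1 by omega]
            rfl
          · by_cases he2 : i = m + 1 - j
            · obtain ⟨j, rfl⟩ : ∃ k, j = k + 1 := ⟨j - 1, by omega⟩
              refine ⟨1, one_mem _, _, hjmem j (by omega), ?_⟩
              rw [one_mul, ← he2, show m + 1 - j = i + 1 by omega]
              change chain x (i + 1) j * x i * x i = _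
              rw [mul_assoc, h.sq i hi0 (by omega), mul_one]
            · exact ⟨x (i - 1), mem_firstGen x (by omega), _, hjmem j hj,
                h.chain_mid (by omega) (by omega) (by omega) (by omega)⟩
    · by_cases hjm : j = m
      · subst hjm
        refine ⟨1, one_mem _, _, hlast _ (Or.inr rfl), ?_⟩
        simp
      · obtain ⟨e, he, -, h1⟩ := h.chain_zero_mem (l := m + 1 - j) (j := j) (by omega) (by omega)
        refine ⟨e⁻¹, inv_mem ?_, _, hjmem j hj, h1⟩
        rcases he with rfl | rfl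
        · exact mem_firstGen x (by omega)
        · exact inv_mem (mem_firstGen x (by omega))
  · obtain ⟨d, hd, rfl⟩ : ∃ d, (d = x 0 ∨ d = (x 0)⁻¹) ∧ c = chain x 1 m * d := by
      rcases hc with rfl | rfl
      · exact ⟨_, Or.inl rfl, rfl⟩
      · exact ⟨_, Or.inr rfl, rfl⟩
    have hone : chain x 1 m ∈ altReps x m := by
      have := hjmem m le_rfl
      simpa using this
    have hzero : ∀ u : G, (u = x 0 ∨ u = (x 0)⁻¹) →
        ∃ k ∈ firstGen x m, ∃ c' ∈ altReps x m, chain x 1 m * d * u = k * c' := by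
      intro u hu
      rw [mul_assoc]
      rcases hd with rfl | rfl <;> rcases hu with rfl | rfl
      · exact ⟨1, one_mem _, _, hlast _ (Or.inr rfl), by rw [h3, one_mul]⟩
      · exact ⟨1, one_mem _, _, hone, by rw [mul_inv_cancel, mul_one, one_mul]⟩
      · exact ⟨1, one_mem _, _, hone, by rw [inv_mul_cancel, mul_one, one_mul]⟩
      · exact ⟨1, one_mem _, _, hlast _ (Or.inl rfl), by rw [hinv3, one_mul]⟩
    rcases hgi with rfl | ⟨rfl, rfl⟩
    · rcases Nat.eq_zero_or_pos i with rfl | hi0
      · exact hzero _ (Or.inl rfl)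
      · by_cases hi1 : i = 1
        · subst hi1
          obtain ⟨m, rfl⟩ : ∃ k, m = k + 1 := ⟨m - 1, by omega⟩
          have hb := h.braid_zero (by omega)
          have e1 := h.inv_eq le_rfl (show 1 < N by omega)
          have hbinv : x 1 * (x 0)⁻¹ * x 1 = x 0 * x 1 * x 0 := by
            have := congrArg Inv.inv hb
            simp only [mul_inv_rev, inv_inv, e1, ← mul_assoc] at this
            exact this
          obtain ⟨e, he, h1, h2⟩ := h.chain_zero_mem (l := 2) (j := m) le_rfl (by omega)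
          have hem : e ∈ firstGen x (m + 1) := by
            rcases he with rfl | rfl
            · exact mem_firstGen x (by omega)
            · exact inv_mem (mem_firstGen x (by omega))
          have hsplit : chain x 1 (m + 1) = chain x 2 m * x 1 := rfl
          rcases hd with rfl | rfl
          · refine ⟨e⁻¹, inv_mem hem, _, hlast _ (Or.inr rfl), ?_⟩
            rw [hsplit]
            calc chain x 2 m * x 1 * x 0 * x 1 = chain x 2 m * (x 1 * x 0 * x 1) := by group
              _ = chain x 2 m * (x 0)⁻¹ * (x 1 * (x 0)⁻¹) := by rw [hb]; group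
              _ = _ := by rw [h2]; group
          · refine ⟨e, hem, _, hlast _ (Or.inl rfl), ?_⟩
            rw [hsplit]
            calc chain x 2 m * x 1 * (x 0)⁻¹ * x 1 = chain x 2 m * (x 1 * (x 0)⁻¹ * x 1) := by group
              _ = chain x 2 m * x 0 * (x 1 * x 0) := by rw [hbinv]; group
              _ = _ := by rw [h1]; group
        · have hm' := h.chain_mid (l := 1) (j := m) (i := i) le_rfl (by omega) (by omega) (by omega)
          have hd' : d⁻¹ = x 0 ∨ d⁻¹ = (x 0)⁻¹ := by rcases hd with rfl | rfl <;> simp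
          refine ⟨x (i - 1), mem_firstGen x (by omega), _, hlast _ hd', ?_⟩
          have hsw : d * x i = x i * d⁻¹ := by
            rcases hd with rfl | rfl
            · exact (h.flip_zero_inv (by omega) (by omega)).symm
            · rw [inv_inv]; exact (h.flip_zero (by omega) (by omega)).symm
          rw [mul_assoc, hsw, ← mul_assoc, hm', mul_assoc]
    · exact hzero _ (Or.inr rfl)

theorem firstGen_bound {x : ℕ → G} {N : ℕ} (h : AltRel x N) :
    ∀ m ≤ N, (firstGen x m : Set G).Finite ∧ 2 * (firstGen x m : Set G).ncard ≤ (m + 2).factorial := by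
  intro m
  induction m with
  | zero =>
    intro _
    have : (firstGen x 0 : Set G) = {1} := by
      simp [firstGen]
    simp [this]
  | succ m ih =>
    intro hm
    obtain ⟨hfin, hcard⟩ := ih (by omega)
    have hfinR : (altReps x m).Finite :=
      ((Set.finite_le_nat m).image _).union (by simp)
    have hcardR : (altReps x m).ncard ≤ m + 3 := by
      refine (Set.ncard_union_le _ _).trans ?_
      have h1 : ((fun j => chain x (m + 1 - j) j) '' {j | j ≤ m}).ncard ≤ m + 1 := by
        refine (Set.ncard_image_le (Set.finite_le_nat m)).trans (le_of_eq ?_)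
        rw [show {j | j ≤ m} = ((Finset.range (m + 1) : Finset ℕ) : Set ℕ) by ext; simp [Nat.lt_succ_iff],
          Set.ncard_coe_finset, Finset.card_range]
      have h2 := Set.ncard_insert_le (chain x 1 m * x 0) {chain x 1 m * (x 0)⁻¹}
      rw [Set.ncard_singleton] at h2
      omega
    have hsub : (firstGen x (m + 1) : Set G) ⊆ Set.image2 (· * ·) (firstGen x m : Set G) (altReps x m) := by
      intro g hg
      refine Subgroup.closure_induction_right ?_ ?_ ?_ hg
      · exact ⟨1, one_mem _, 1, Or.inl ⟨0, Nat.zero_le _, rfl⟩, one_mul 1⟩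
      · rintro _ _ y hy ⟨k, hk, c, hc, rfl⟩
        obtain ⟨k', hk', c', hc', e⟩ := altReps_closed h (by omega) hc (Or.inl hy)
        exact ⟨k * k', mul_mem hk hk', c', hc', by simp only [mul_assoc, e]⟩
      · rintro _ _ y hy ⟨k, hk, c, hc, rfl⟩
        obtain ⟨k', hk', c', hc', e⟩ := altReps_closed h (by omega) hc
          (Or.inr (by rwa [inv_inv]) : y⁻¹ ∈ x '' {i | i < m + 1} ∨ y⁻¹⁻¹ ∈ x '' {i | i < m + 1})
        exact ⟨k * k', mul_mem hk hk', c', hc', by simp only [mul_assoc, e]⟩
    have hfin2 := hfin.image2 (· * ·) hfinR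
    refine ⟨hfin2.subset hsub, ?_⟩
    have h4 : (Set.image2 (· * ·) (firstGen x m : Set G) (altReps x m)).ncard ≤
        (firstGen x m : Set G).ncard * (altReps x m).ncard := by
      rw [← Set.image_prod, ← Set.ncard_prod]
      exact Set.ncard_image_le (hfin.prod hfinR)
    have h5 := (Set.ncard_le_ncard hsub hfin2).trans h4
    calc 2 * (firstGen x (m + 1) : Set G).ncard
        ≤ 2 * ((firstGen x m : Set G).ncard * (altReps x m).ncard) := by omega
      _ = (2 * (firstGen x m : Set G).ncard) * (altReps x m).ncard := by ring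
      _ ≤ (m + 2).factorial * (m + 3) := Nat.mul_le_mul hcard hcardR
      _ = (m + 1 + 2).factorial := by rw [Nat.factorial_succ (m + 2)]; ring

end CfsgLib.Present
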