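import Cfsg.Agent.Lib.Present.Icosahedral
import Cfsg.Agent.Lib.Char.Burnside
import Cfsg.Agent.S0494
import Mathlib.GroupTheory.PresentedGroup
import Mathlib.GroupTheory.SpecificGroups.ZGroup
import Mathlib.GroupTheory.SpecificGroups.Quaternion
import Mathlib.GroupTheory.SpecificGroups.Alternating
import Mathlib.LinearAlgebra.Matrix.SpecialLinearGroup
import Mathlib.Tactic

/-!
The binary icosahedral presentation and the groups `alternatingGroup (Fin 5)`, `SL(2, 5)`.
-/

namespace CfsgLib.Present

/-- Groups whose order is a proper divisor of 60 are solvable. -/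
theorem isSolvable_of_card_dvd_sixty {G : Type*} [Group G] [Finite G] (h : Nat.card G ∣ 60)
    (h60 : Nat.card G ≠ 60) : Group.IsSolvable G := by
  by_cases h30 : Nat.card G = 30
  · have : IsZGroup G := IsZGroup.of_squarefree (by rw [h30]; decide +kernel)
    infer_instance
  have hle := Nat.le_of_dvd (by norm_num) h
  have hpos : 0 < Nat.card G := Nat.card_pos
  have key : ∀ {p q a b : ℕ}, p.Prime → q.Prime → Nat.card G = p ^ a * q ^ b → Group.IsSolvable G :=
    fun hp hq e => CfsgLib.Char.isSolvable_of_card_eq_prime_pow_mul hp hq e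
  obtain ⟨k, hk⟩ := h
  have hmem : Nat.card G ∈ Nat.divisors 60 := by
    rw [Nat.mem_divisors]; exact ⟨⟨k, hk⟩, by norm_num⟩
  rw [show Nat.divisors 60 = {1, 2, 3, 4, 5, 6, 10, 12, 15, 20, 30, 60} by decide +kernel] at hmem
  simp only [Finset.mem_insert, Finset.mem_singleton, h60, h30, or_false] at hmem
  rcases hmem with e | e | e | e | e | e | e | e | e | e
  · exact key (p := 2) (q := 3) (a := 0) (b := 0) (by norm_num) (by norm_num) (by rw [e]; norm_num)
  · exact key (p := 2) (q := 3) (a := 1) (b := 0) (by norm_num) (by norm_num) (by rw [e]; norm_num)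
  · exact key (p := 2) (q := 3) (a := 0) (b := 1) (by norm_num) (by norm_num) (by rw [e]; norm_num)
  · exact key (p := 2) (q := 3) (a := 2) (b := 0) (by norm_num) (by norm_num) (by rw [e]; norm_num)
  · exact key (p := 2) (q := 5) (a := 0) (b := 1) (by norm_num) (by norm_num) (by rw [e]; norm_num)
  · exact key (p := 2) (q := 3) (a := 1) (b := 1) (by norm_num) (by norm_num) (by rw [e]; norm_num)
  · exact key (p := 2) (q := 5) (a := 1) (b := 1) (by norm_num) (by norm_num) (by rw [e]; norm_num)
  · exact key (p := 2) (q := 3) (a := 2) (b := 1) (by norm_num) (by norm_num) (by rw [e]; norm_num)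
  · exact key (p := 3) (q := 5) (a := 1) (b := 1) (by norm_num) (by norm_num) (by rw [e]; norm_num)
  · exact key (p := 2) (q := 5) (a := 2) (b := 1) (by norm_num) (by norm_num) (by rw [e]; norm_num)

/-- A nonsolvable group of order 60 is isomorphic to the alternating group of degree 5. -/
theorem nonsolvable_sixty {G : Type*} [Group G] [Finite G] (h : Nat.card G = 60)
    (hns : ¬ Group.IsSolvable G) : Nonempty (G ≃* alternatingGroup (Fin 5)) := by
  have : Nontrivial G := Finite.one_lt_card_iff_nontrivial.mp (by omega)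
  have : IsSimpleGroup G := ⟨fun N hN => by
    by_contra hc
    push Not at hc
    obtain ⟨hb, ht⟩ := hc
    apply hns
    have h1 : Nat.card N ∣ 60 := h ▸ N.card_subgroup_dvd_card
    have h2 : Nat.card N ≠ 60 := fun e => ht (Subgroup.eq_top_of_card_eq N (e.trans h.symm))
    have h3 : Nat.card (G ⧸ N) ∣ 60 := h ▸ N.index_dvd_card
    have h4 : Nat.card (G ⧸ N) ≠ 60 := fun e => hb (Subgroup.card_eq_one.mp (by
      have := N.card_mul_index
      rw [show N.index = 60 from e, h] at this
      omega))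
    exact Group.isSolvable_iff_subgroup_quotient N |>.mpr
      ⟨isSolvable_of_card_dvd_sixty h1 h2, isSolvable_of_card_dvd_sixty h3 h4⟩⟩
  exact Cfsg.Agent.S0494.result h

/-- a 3-cycle `a` with `(a * finRotate 5) ^ 2 = 1` -/
def icoA : Equiv.Perm (Fin 5) :=
  ⟨![0, 4, 1, 3, 2], ![0, 2, 4, 3, 1], by decide, by decide⟩

/-- the standard 5-cycle -/
def icoB : Equiv.Perm (Fin 5) :=
  ⟨![1, 2, 3, 4, 0], ![4, 0, 1, 2, 3], by decide, by decide⟩

/-- `icoA` inside the alternating group -/
def icoA' : alternatingGroup (Fin 5) := ⟨icoA, by rw [Equiv.Perm.mem_alternatingGroup]; decide +kernel⟩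

/-- `icoB` inside the alternating group -/
def icoB' : alternatingGroup (Fin 5) := ⟨icoB, by rw [Equiv.Perm.mem_alternatingGroup]; decide +kernel⟩

theorem ico_pair : ∃ a b : alternatingGroup (Fin 5),
    orderOf a = 3 ∧ orderOf b = 5 ∧ orderOf (a * b) = 2 ∧ Subgroup.closure {a, b} = ⊤ := by
  refine ⟨icoA', icoB', ?_, ?_, ?_, ?_⟩
  · exact orderOf_eq_prime (p := 3) (hp := ⟨by norm_num⟩) (by decide +kernel) (by decide +kernel)
  · exact orderOf_eq_prime (p := 5) (hp := ⟨by norm_num⟩) (by decide +kernel) (by decide +kernel)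
  · exact orderOf_eq_prime (p := 2) (hp := ⟨by norm_num⟩) (by decide +kernel) (by decide +kernel)
  · set a : alternatingGroup (Fin 5) := icoA' with hadef
    set b : alternatingGroup (Fin 5) := icoB' with hbdef
    set S := Subgroup.closure ({a, b} : Set (alternatingGroup (Fin 5)))
    have ha : a ∈ S := Subgroup.subset_closure (by simp)
    have hb : b ∈ S := Subgroup.subset_closure (by simp)
    have hab : a * b ∈ S := mul_mem ha hb
    have h3 : 3 ∣ Nat.card S := by
      have := Subgroup.orderOf_dvd_natCard S ha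
      rwa [orderOf_eq_prime (x := a) (p := 3) (hp := ⟨by norm_num⟩) (by rw [hadef]; decide +kernel) (by rw [hadef]; decide +kernel)] at this
    have h5 : 5 ∣ Nat.card S := by
      have := Subgroup.orderOf_dvd_natCard S hb
      rwa [orderOf_eq_prime (x := b) (p := 5) (hp := ⟨by norm_num⟩) (by rw [hbdef]; decide +kernel) (by rw [hbdef]; decide +kernel)] at this
    have h2 : 2 ∣ Nat.card S := by
      have := Subgroup.orderOf_dvd_natCard S hab
      rwa [orderOf_eq_prime (x := (a * b)) (p := 2) (hp := ⟨by norm_num⟩) (by rw [hadef, hbdef]; decide +kernel) (by rw [hadef, hbdef]; decide +kernel)] at this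
    have h30 : 30 ∣ Nat.card S := by omega
    have hA5 : Nat.card (alternatingGroup (Fin 5)) = 60 := by
      rw [Nat.card_eq_fintype_card]
      have := two_mul_card_alternatingGroup (α := Fin 5)
      rw [Fintype.card_perm, Fintype.card_fin, show Nat.factorial 5 = 120 from rfl] at this
      omega
    have hmul := S.card_mul_index
    rw [hA5] at hmul
    obtain ⟨k, hk⟩ := h30
    have hk1 : k * S.index = 2 := by rw [hk, mul_assoc] at hmul; omega
    rcases (Nat.dvd_prime Nat.prime_two).mp ⟨k, by rw [← hk1, mul_comm]⟩ with h1 | h1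
    · exact Subgroup.index_eq_one.mp h1
    · exfalso
      have hn : S.Normal := Subgroup.normal_of_index_eq_two h1
      rcases hn.eq_bot_or_eq_top with e | e
      · have : S.index = 60 := by rw [e, Subgroup.index_bot, hA5]
        omega
      · rw [e, Subgroup.index_top] at h1
        omega

/-- relations of the binary icosahedral group -/
def binRels : Set (FreeGroup (Fin 3)) :=
  {FreeGroup.of (0 : Fin 3) ^ 3, FreeGroup.of (1 : Fin 3) ^ 5, FreeGroup.of (2 : Fin 3) ^ 2,
    (FreeGroup.of (2 : Fin 3))⁻¹ * FreeGroup.of 0 * FreeGroup.of 2 * (FreeGroup.of (0 : Fin 3))⁻¹,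
    (FreeGroup.of (2 : Fin 3))⁻¹ * FreeGroup.of 1 * FreeGroup.of 2 * (FreeGroup.of (1 : Fin 3))⁻¹,
    (FreeGroup.of (0 : Fin 3) * FreeGroup.of 1) ^ 2 * (FreeGroup.of (2 : Fin 3))⁻¹}

theorem binPresented_card_le : Finite (PresentedGroup binRels) ∧ Nat.card (PresentedGroup binRels) ≤ 120 := by
  classical
  set X : PresentedGroup binRels := PresentedGroup.of 0 with hX
  set Y : PresentedGroup binRels := PresentedGroup.of 1 with hY
  set Z : PresentedGroup binRels := PresentedGroup.of 2 with hZ
  have rel : ∀ r ∈ binRels, PresentedGroup.mk binRels r = 1 := fun r hr => PresentedGroup.one_of_mem hr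
  have h1 : X ^ 3 = 1 := by have := rel _ (Or.inl rfl); rwa [map_pow] at this
  have h2 : Y ^ 5 = 1 := by have := rel _ (Or.inr (Or.inl rfl)); rwa [map_pow] at this
  have h3 : Z ^ 2 = 1 := by have := rel _ (Or.inr (Or.inr (Or.inl rfl))); rwa [map_pow] at this
  have h4 : Z⁻¹ * X * Z * X⁻¹ = 1 := by
    have := rel _ (Or.inr (Or.inr (Or.inr (Or.inl rfl))))
    simp only [map_mul, map_inv] at this
    exact this
  have h5 : Z⁻¹ * Y * Z * Y⁻¹ = 1 := by
    have := rel _ (Or.inr (Or.inr (Or.inr (Or.inr (Or.inl rfl)))))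
    simp only [map_mul, map_inv] at this
    exact this
  have h6 : (X * Y) ^ 2 * Z⁻¹ = 1 := by
    have := rel _ (Or.inr (Or.inr (Or.inr (Or.inr (Or.inr rfl)))))
    simp only [map_mul, map_inv, map_pow] at this
    exact this
  have hZc : ∀ g, Z * g = g * Z := by
    intro g
    have hg : g ∈ Subgroup.closure (Set.range (PresentedGroup.of : Fin 3 → PresentedGroup binRels)) := by
      rw [PresentedGroup.closure_range_of]; trivial
    induction hg using Subgroup.closure_induction with
    | mem a ha =>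
      obtain ⟨i, rfl⟩ := ha
      fin_cases i
      · calc Z * X = Z * (Z⁻¹ * X * Z * X⁻¹) * X := by rw [h4, mul_one]
          _ = X * Z := by group
      · calc Z * Y = Z * (Z⁻¹ * Y * Z * Y⁻¹) * Y := by rw [h5, mul_one]
          _ = Y * Z := by group
      · rfl
    | one => simp
    | mul a b _ _ ha hb => rw [← mul_assoc, ha, mul_assoc, hb, mul_assoc]
    | inv a _ ha => exact (Commute.inv_right (ha : Commute Z a)).eq
  have hle : Subgroup.zpowers Z ≤ Subgroup.center _ :=
    Subgroup.zpowers_le.mpr (Subgroup.mem_center_iff.mpr fun g => (hZc g).symm)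
  have hn : (Subgroup.zpowers Z).Normal := ⟨fun n hn g => by
    rwa [Subgroup.mem_center_iff.mp (hle hn) g, mul_inv_cancel_right]⟩
  let π := QuotientGroup.mk' (Subgroup.zpowers Z)
  have hπZ : π Z = 1 := (QuotientGroup.eq_one_iff _).mpr (Subgroup.mem_zpowers Z)
  have hgen : Subgroup.closure {π X, π Y} = ⊤ := by
    rw [eq_top_iff, ← Subgroup.map_top_of_surjective π (QuotientGroup.mk'_surjective _),
      ← PresentedGroup.closure_range_of binRels, MonoidHom.map_closure, Subgroup.closure_le]
    rintro _ ⟨_, ⟨i, rfl⟩, rfl⟩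
    fin_cases i
    · exact Subgroup.subset_closure (Or.inl rfl)
    · exact Subgroup.subset_closure (Or.inr rfl)
    · change π Z ∈ _
      rw [hπZ]; exact one_mem _
  obtain ⟨hfin, hcard⟩ := icosahedral_card_le (π X) (π Y) (by rw [← map_pow, h1, map_one])
    (by rw [← map_pow, h2, map_one]) (by rw [← map_mul, ← map_pow, mul_inv_eq_one.mp h6, hπZ]) hgen
  have hfz : IsOfFinOrder Z := isOfFinOrder_iff_pow_eq_one.mpr ⟨2, by norm_num, h3⟩
  have : Finite (Subgroup.zpowers Z) := hfz.finite_zpowers
  have hf : Finite (PresentedGroup binRels) :=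
    Finite.of_equiv _ (Subgroup.groupEquivQuotientProdSubgroup (s := Subgroup.zpowers Z)).symm
  refine ⟨hf, ?_⟩
  rw [Subgroup.card_eq_card_quotient_mul_card_subgroup (Subgroup.zpowers Z)]
  refine (Nat.mul_le_mul hcard ?_).trans (show 60 * 2 ≤ 120 by norm_num)
  rw [Nat.card_zpowers]
  exact orderOf_le_of_pow_eq_one (by norm_num) h3

theorem exists_hom {G : Type*} [Group G] (x y z : G) (hx : x ^ 3 = 1) (hy : y ^ 5 = 1) (hz : z ^ 2 = 1)
    (hzx : z * x = x * z) (hzy : z * y = y * z) (hxy : (x * y) ^ 2 = z) :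
    ∃ φ : PresentedGroup binRels →* G, x ∈ φ.range ∧ y ∈ φ.range ∧ z ∈ φ.range := by
  have hr : ∀ r ∈ binRels, FreeGroup.lift ![x, y, z] r = 1 := by
    intro r hr
    rcases hr with rfl | rfl | rfl | rfl | rfl | rfl
    · simpa using hx
    · simpa using hy
    · simpa using hz
    · simp [show z⁻¹ * x * z = x by rw [mul_assoc, ← hzx, inv_mul_cancel_left]]
    · simp [show z⁻¹ * y * z = y by rw [mul_assoc, ← hzy, inv_mul_cancel_left]]
    · simp [hxy]
  exact ⟨PresentedGroup.toGroup hr, ⟨_, PresentedGroup.toGroup.of hr (x := 0)⟩,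
    ⟨_, PresentedGroup.toGroup.of hr (x := 1)⟩, ⟨_, PresentedGroup.toGroup.of hr (x := 2)⟩⟩

/-- generator of order 3 of `SL(2, 5)` -/
def slX : Matrix.SpecialLinearGroup (Fin 2) (ZMod 5) := ⟨!![0, -1; 1, -1], by decide +kernel⟩

/-- generator of order 5 of `SL(2, 5)` -/
def slY : Matrix.SpecialLinearGroup (Fin 2) (ZMod 5) := ⟨!![1, 1; 0, 1], by decide +kernel⟩

theorem sl25_word (A : Matrix.SpecialLinearGroup (Fin 2) (ZMod 5)) :
    A ∈ Subgroup.closure {slX, slY} := by
  have h : ∀ A : Matrix.SpecialLinearGroup (Fin 2) (ZMod 5), ∃ a b c : Fin 5,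
      A = slY ^ a.val * (slX * slY) * slY ^ b.val * (slX * slY) * slY ^ c.val ∨
      A = slY ^ a.val * (slX * slY) * slY ^ b.val * (slX * slY) * slY ^ c.val * (slX * slY) := by
    decide +kernel
  obtain ⟨a, b, c, e⟩ := h A
  have hX : slX ∈ Subgroup.closure {slX, slY} := Subgroup.subset_closure (by simp)
  have hY : slY ∈ Subgroup.closure {slX, slY} := Subgroup.subset_closure (by simp)
  have hS := mul_mem hX hY
  rcases e with e | e <;> rw [e]
  · exact mul_mem (mul_mem (mul_mem (mul_mem (pow_mem hY _) hS) (pow_mem hY _)) hS) (pow_mem hY _)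
  · exact mul_mem (mul_mem (mul_mem (mul_mem (mul_mem (pow_mem hY _) hS) (pow_mem hY _)) hS) (pow_mem hY _)) hS

theorem binPresented_equiv_sl25 :
    Nonempty (PresentedGroup binRels ≃* Matrix.SpecialLinearGroup (Fin 2) (ZMod 5)) := by
  obtain ⟨φ, hx, hy, -⟩ := exists_hom slX slY (-1) (by decide +kernel) (by decide +kernel)
    (by decide +kernel) (by decide +kernel) (by decide +kernel) (by decide +kernel)
  have hsurj : Function.Surjective φ := by
    rw [← MonoidHom.range_eq_top, eq_top_iff]
    intro A _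
    refine (Subgroup.closure_le φ.range).mpr ?_ (sl25_word A)
    rintro _ (rfl | rfl) <;> assumption
  obtain ⟨hf, hle⟩ := binPresented_card_le
  have h120 : Nat.card (Matrix.SpecialLinearGroup (Fin 2) (ZMod 5)) = 120 := by
    rw [Nat.card_eq_fintype_card]; decide +kernel
  exact ⟨MulEquiv.ofBijective φ (hsurj.bijective_of_nat_card_le (h120.symm ▸ hle))⟩

theorem quaternion_unique_involution :
    ∀ u v : QuaternionGroup 2, u ^ 2 = 1 → u ≠ 1 → v ^ 2 = 1 → v ≠ 1 → u = v := by decide +kernel

theorem nonsolvable_120_iso {G : Type*} [Group G] [Finite G] (hcard : Nat.card G = 120)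
    (hns : ¬ Group.IsSolvable G)
    (hQ : ∀ P : Sylow 2 G, Nonempty ((P : Subgroup G) ≃* QuaternionGroup 2)) :
    Nonempty (G ≃* Matrix.SpecialLinearGroup (Fin 2) (ZMod 5)) := by
  classical
  have : Fact (Nat.Prime 5) := ⟨by norm_num⟩
  have : Fact (Nat.Prime 2) := ⟨by norm_num⟩
  let P5 : Sylow 5 G := default
  have h5c : Nat.card (P5 : Subgroup G) = 5 := by
    rw [P5.card_eq_multiplicity, hcard,
      show (120 : ℕ) = 5 * 24 from rfl, Nat.factorization_mul (by norm_num) (by norm_num), Finsupp.add_apply,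
      Nat.Prime.factorization_self (by norm_num), Nat.factorization_eq_zero_of_not_dvd (by norm_num : ¬ 5 ∣ 24)]
    norm_num
  have h5i : (P5 : Subgroup G).index = 24 := by
    have := (P5 : Subgroup G).card_mul_index
    rw [h5c, hcard] at this
    omega
  have hn5 : Nat.card (Sylow 5 G) = 6 := by
    have h1 := card_sylow_modEq_one 5 G
    have h2 : Nat.card (Sylow 5 G) ∣ 24 := h5i ▸ P5.card_dvd_index
    have h3 := Nat.le_of_dvd (by norm_num) h2
    have h4 : Nat.card (Sylow 5 G) ≠ 1 := by
      intro e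
      apply hns
      have : (P5 : Subgroup G).Normal := by
        rw [← Subgroup.normalizer_eq_top_iff]
        apply Subgroup.index_eq_one.mp
        exact P5.card_eq_index_normalizer.symm.trans e
      refine (Group.isSolvable_iff_subgroup_quotient (P5 : Subgroup G)).mpr ⟨?_, ?_⟩
      · exact isSolvable_of_card_dvd_sixty (by rw [h5c]; norm_num) (by rw [h5c]; norm_num)
      · exact CfsgLib.Char.isSolvable_of_card_eq_prime_pow_mul (p := 2) (q := 3) (a := 3) (b := 1)
          (by norm_num) (by norm_num) (h5i.trans (by norm_num))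
    unfold Nat.ModEq at h1
    interval_cases h : Nat.card (Sylow 5 G) <;> omega
  let φ := MulAction.toPermHom G (Sylow 5 G)
  have hKle : φ.ker ≤ MulAction.stabilizer G P5 := fun g hg => by
    have := Equiv.congr_fun (MonoidHom.mem_ker.mp hg) P5
    exact this
  have hK20 : Nat.card φ.ker ∣ 20 := by
    have h1 : Nat.card (MulAction.stabilizer G P5) = 20 := by
      have h2 := (MulAction.stabilizer G P5).card_mul_index
      rw [MulAction.index_stabilizer_of_transitive G P5, hn5, hcard] at h2
      omega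
    exact h1 ▸ Subgroup.card_dvd_of_le hKle
  have hrange : Nat.card φ.range * Nat.card φ.ker = 120 := by
    rw [← hcard, ← Subgroup.index_ker, Subgroup.index_mul_card]
  have hKsolv : Group.IsSolvable φ.ker :=
    isSolvable_of_card_dvd_sixty (hK20.trans (by norm_num)) (fun e => by rw [e] at hK20; norm_num at hK20)
  have hRns : ¬ Group.IsSolvable φ.range := fun h =>
    hns (Group.isSolvable_of_ker_le_range φ.ker.subtype φ.rangeRestrict
      (by rw [MonoidHom.ker_rangeRestrict, Subgroup.range_subtype]))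
  -- Q8 does not act faithfully on six points
  have hK1 : Nat.card φ.ker ≠ 1 := by
    intro e
    have hinj : Function.Injective φ := (MonoidHom.ker_eq_bot_iff φ).mp (Subgroup.card_eq_one.mp e)
    let Q : Sylow 2 G := default
    obtain ⟨eQ⟩ := hQ Q
    let ι : QuaternionGroup 2 →* G := (Q : Subgroup G).subtype.comp eQ.symm.toMonoidHom
    have hι : Function.Injective ι := Subtype.val_injective.comp eQ.symm.injective
    let w : QuaternionGroup 2 := QuaternionGroup.a 2
    have hw1 : w ≠ 1 := by decide +kernel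
    have hw : ∀ u : QuaternionGroup 2, u ≠ 1 → ∃ k : Fin 4, u ^ (k : ℕ) = w := by decide +kernel
    apply hw1
    apply hι
    apply hinj
    rw [map_one, map_one]
    refine Equiv.ext fun S => ?_
    change ι w • S = S
    have hstab : ¬ Function.Injective (fun u : QuaternionGroup 2 => ι u • S) := fun hi => by
      have h1 := Nat.card_le_card_of_injective _ hi
      rw [hn5, Nat.card_eq_fintype_card, QuaternionGroup.card] at h1
      omega
    obtain ⟨u, v, huv, hne⟩ : ∃ u v, ι u • S = ι v • S ∧ u ≠ v := by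
      rw [Function.Injective] at hstab
      push Not at hstab
      obtain ⟨u, v, h1, h2⟩ := hstab
      exact ⟨u, v, h1, h2⟩
    obtain ⟨k, hk⟩ := hw (v⁻¹ * u) (fun h => hne (inv_mul_eq_one.mp h).symm)
    have hfix : ι (v⁻¹ * u) • S = S := by rw [map_mul, map_inv, mul_smul, huv, inv_smul_smul]
    rw [← hk, map_pow]
    exact MulAction.mem_stabilizer_iff.mp ((MulAction.stabilizer G S).pow_mem hfix _)
  have hK2 : Nat.card φ.ker = 2 := by
    have hdiv : Nat.card φ.ker ∈ Nat.divisors 20 := Nat.mem_divisors.mpr ⟨hK20, by norm_num⟩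
    rw [show Nat.divisors 20 = {1, 2, 4, 5, 10, 20} by decide +kernel] at hdiv
    simp only [Finset.mem_insert, Finset.mem_singleton, hK1, false_or] at hdiv
    rcases hdiv with e | e | e | e | e
    · exact e
    all_goals
      exfalso
      rw [e] at hrange
      have hdd : Nat.card φ.range ∣ 60 ∧ Nat.card φ.range ≠ 60 := by
        have : Nat.card φ.range = 30 ∨ Nat.card φ.range = 24 ∨ Nat.card φ.range = 12 ∨ Nat.card φ.range = 6 := by omega
        rcases this with h | h | h | h
        · exact ⟨by rw [h]; norm_num, by omega⟩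
        · exact absurd (CfsgLib.Char.isSolvable_of_card_eq_prime_pow_mul (p := 2) (q := 3) (a := 3) (b := 1)
            (by norm_num) (by norm_num) (h.trans (by norm_num))) hRns
        · exact ⟨by rw [h]; norm_num, by omega⟩
        · exact ⟨by rw [h]; norm_num, by omega⟩
      exact hRns (isSolvable_of_card_dvd_sixty hdd.1 hdd.2)
  have hR60 : Nat.card φ.range = 60 := by rw [hK2] at hrange; omega
  obtain ⟨eA⟩ := nonsolvable_sixty hR60 hRns
  let π : G →* alternatingGroup (Fin 5) := eA.toMonoidHom.comp φ.rangeRestrict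
  have hπs : Function.Surjective π := eA.surjective.comp φ.rangeRestrict_surjective
  have hπker : π.ker = φ.ker := by
    ext g
    rw [MonoidHom.mem_ker, ← MonoidHom.ker_rangeRestrict φ, MonoidHom.mem_ker]
    exact MulEquiv.map_eq_one_iff eA
  obtain ⟨z, hz1, hzK⟩ : ∃ z : G, z ≠ 1 ∧ z ∈ π.ker := by
    obtain ⟨⟨z, hz⟩, h⟩ := Subgroup.ne_bot_iff_exists_ne_one.mp
      (fun h : φ.ker = ⊥ => hK1 (Subgroup.card_eq_one.mpr h))
    exact ⟨z, fun e => h (Subtype.ext e), hπker ▸ hz⟩
  have hKeq : ∀ k ∈ π.ker, k = 1 ∨ k = z := by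
    intro k hk
    rw [hπker] at hk hzK
    obtain ⟨_, h2⟩ := (Nat.card_eq_two_iff' (1 : φ.ker)).mp hK2
    by_cases h : k = 1
    · exact Or.inl h
    · exact Or.inr (congrArg Subtype.val ((h2.2 ⟨k, hk⟩ (fun e => h (congrArg Subtype.val e))).trans
        (h2.2 ⟨z, hzK⟩ (fun e => hz1 (congrArg Subtype.val e))).symm))
  have hz2 : z ^ 2 = 1 := by
    rcases hKeq (z ^ 2) (pow_mem hzK 2) with h | h
    · exact h
    · rw [pow_two] at h; exact absurd (mul_eq_left.mp h) hz1
  have hzc : ∀ g, z * g = g * z := by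
    intro g
    rcases hKeq _ ((MonoidHom.normal_ker π).conj_mem z hzK g) with h | h
    · exfalso
      apply hz1
      simpa using h
    · calc z * g = (g * z * g⁻¹) * g := by rw [h]
        _ = g * z := by group
  have hinv : ∀ t : G, t ^ 2 = 1 → t ≠ 1 → t = z := by
    intro t ht ht1
    have hzQ : ∀ Q : Sylow 2 G, z ∈ (Q : Subgroup G) := by
      intro Q
      have hp : IsPGroup 2 π.ker := IsPGroup.of_card (n := 1) (by rw [hπker, hK2]; norm_num)
      exact hp.le_sylow_of_normal Q hzK
    have hp : IsPGroup 2 (Subgroup.zpowers t) := IsPGroup.of_card (n := 1) (by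
      rw [Nat.card_zpowers, pow_one]; exact orderOf_eq_prime ht ht1)
    obtain ⟨Q, hQt⟩ := hp.exists_le_sylow
    obtain ⟨eQ⟩ := hQ Q
    have := quaternion_unique_involution (eQ ⟨t, hQt (Subgroup.mem_zpowers t)⟩) (eQ ⟨z, hzQ Q⟩)
      (by rw [← map_pow, show (⟨t, _⟩ : (Q : Subgroup G)) ^ 2 = 1 from Subtype.ext ht, map_one])
      (fun h => ht1 (congrArg Subtype.val (eQ.injective (h.trans (map_one eQ).symm))))
      (by rw [← map_pow, show (⟨z, hzQ Q⟩ : (Q : Subgroup G)) ^ 2 = 1 from Subtype.ext hz2, map_one])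
      (fun h => hz1 (congrArg Subtype.val (eQ.injective (h.trans (map_one eQ).symm))))
    exact congrArg Subtype.val (eQ.injective this)
  obtain ⟨a, b, ha, hb, hab, habgen⟩ := ico_pair
  obtain ⟨g, hg⟩ := hπs a
  obtain ⟨k, hk⟩ := hπs b
  have hpow : ∀ (u : G) (n : ℕ), π u ^ n = 1 → u ^ (n * 2) = 1 := by
    intro u n h
    rw [pow_mul]
    rcases hKeq (u ^ n) (by rw [MonoidHom.mem_ker, map_pow, h]) with e | e <;> rw [e]
    · exact one_pow 2
    · exact hz2
  have ha3 : a ^ 3 = 1 := (congrArg (a ^ ·) ha).symm.trans (pow_orderOf_eq_one a)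
  have hb5 : b ^ 5 = 1 := (congrArg (b ^ ·) hb).symm.trans (pow_orderOf_eq_one b)
  have hx : (g ^ 4) ^ 3 = 1 := by
    rw [← pow_mul, show 4 * 3 = 3 * 2 * 2 from rfl, pow_mul, hpow g 3 (hg ▸ ha3), one_pow]
  have hy : (k ^ 6) ^ 5 = 1 := by
    rw [← pow_mul, show 6 * 5 = 5 * 2 * 3 from rfl, pow_mul, hpow k 5 (hk ▸ hb5), one_pow]
  have hπx : π (g ^ 4) = a := by rw [map_pow, hg, pow_succ, ha3, one_mul]
  have hπy : π (k ^ 6) = b := by rw [map_pow, hk, pow_succ, hb5, one_mul]
  have hxy : (g ^ 4 * k ^ 6) ^ 2 = z := by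
    have h2 : (a * b) ^ 2 = 1 := (congrArg ((a * b) ^ ·) hab).symm.trans (pow_orderOf_eq_one _)
    rcases hKeq _ (show (g ^ 4 * k ^ 6) ^ 2 ∈ π.ker by
      rw [MonoidHom.mem_ker, map_pow, map_mul, hπx, hπy, h2]) with e | e
    · exfalso
      have h1 : g ^ 4 * k ^ 6 ≠ 1 := fun e' => by
        have := congrArg π e'
        rw [map_mul, hπx, hπy, map_one] at this
        rw [this, orderOf_one] at hab
        omega
      have := congrArg π (hinv _ e h1)
      rw [map_mul, hπx, hπy, MonoidHom.mem_ker.mp hzK] at this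
      rw [this, orderOf_one] at hab
      omega
    · exact e
  obtain ⟨ψ, hψx, hψy, hψz⟩ := exists_hom (g ^ 4) (k ^ 6) z hx hy hz2 (hzc _) (hzc _) hxy
  have hsurj : Function.Surjective ψ := by
    rw [← MonoidHom.range_eq_top, eq_top_iff]
    intro w _
    have hmap : ψ.range.map π = ⊤ := by
      rw [eq_top_iff, ← habgen, Subgroup.closure_le]
      rintro _ (rfl | rfl)
      · exact ⟨_, hψx, hπx⟩
      · exact ⟨_, hψy, hπy⟩
    obtain ⟨u, hu, huw⟩ : π w ∈ ψ.range.map π := hmap ▸ Subgroup.mem_top _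
    have hker : u⁻¹ * w ∈ π.ker := by rw [MonoidHom.mem_ker, map_mul, map_inv, huw, inv_mul_cancel]
    have hmem : u⁻¹ * w ∈ ψ.range := by
      rcases hKeq _ hker with e | e <;> rw [e]
      · exact one_mem _
      · exact hψz
    simpa using mul_mem hu hmem
  obtain ⟨hf, hle⟩ := binPresented_card_le
  obtain ⟨e2⟩ := binPresented_equiv_sl25
  exact ⟨(MulEquiv.ofBijective ψ (hsurj.bijective_of_nat_card_le (hcard.symm ▸ hle))).symm.trans e2⟩

end CfsgLib.Present
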