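import Mathlib.GroupTheory.Coset.Card
import Mathlib.GroupTheory.GroupAction.Quotient
import Mathlib.Algebra.Group.Subgroup.Pointwise
import Mathlib.Tactic

/-!
Coset enumeration for the `(2,3,5)` triangle relations: a group generated by `x`, `y` with
`x ^ 3 = y ^ 5 = (x * y) ^ 2 = 1` has order at most 60.
-/

namespace CfsgLib.Present

theorem icosahedral_card_le {G : Type*} [Group G] (x y : G) (hx0 : x ^ 3 = 1) (hy0 : y ^ 5 = 1)
    (hxy0 : (x * y) ^ 2 = 1) (hgen : Subgroup.closure {x, y} = ⊤) :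
    Finite G ∧ Nat.card G ≤ 60 := by
  classical
  set H := Subgroup.zpowers y with hH
  have hx : ∀ v : G ⧸ H, x • x • x • v = v := fun v => by
    rw [smul_smul, smul_smul, ← pow_two, ← pow_succ, hx0, one_smul]
  have hy : ∀ v : G ⧸ H, y • y • y • y • y • v = v := fun v => by
    rw [smul_smul, smul_smul, smul_smul, smul_smul, ← pow_two, ← pow_succ, ← pow_succ, ← pow_succ,
      hy0, one_smul]
  have hxy : ∀ v : G ⧸ H, x • y • x • y • v = v := fun v => by
    rw [smul_smul, smul_smul, smul_smul, mul_assoc (x * y), ← pow_two, hxy0, one_smul]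
  obtain ⟨v0, hv0⟩ : ∃ w, ((1 : G) : G ⧸ H) = w := ⟨_, rfl⟩
  have ey0 : y • v0 = v0 := by
    rw [← hv0]
    change ((y * 1 : G) : G ⧸ H) = _
    rw [mul_one, QuotientGroup.eq, mul_one]
    exact inv_mem (Subgroup.mem_zpowers y)
  obtain ⟨v1, ex0⟩ : ∃ w, x • v0 = w := ⟨_, rfl⟩
  obtain ⟨v2, ex1⟩ : ∃ w, x • v1 = w := ⟨_, rfl⟩
  have ex2 : x • v2 = v0 := by
    have key := hx v0
    rw [ex0, ex1] at key
    refine key.trans ?_
    rfl
  have ey1 : y • v1 = v2 := by
    apply MulAction.injective x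
    beta_reduce
    have key := hxy v0
    rw [ey0, ex0] at key
    refine key.trans ?_
    rw [ex2]
  obtain ⟨v3, ey2⟩ : ∃ w, y • v2 = w := ⟨_, rfl⟩
  obtain ⟨v4, ex3⟩ : ∃ w, x • v3 = w := ⟨_, rfl⟩
  have ey4 : y • v4 = v1 := by
    apply MulAction.injective x
    beta_reduce
    have key := hxy v2
    rw [ey2, ex3] at key
    refine key.trans ?_
    rw [ex1]
  obtain ⟨v5, ey3⟩ : ∃ w, y • v3 = w := ⟨_, rfl⟩
  have ey5 : y • v5 = v4 := by
    apply MulAction.injective y
    beta_reduce
    have key := hy v1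
    rw [ey1, ey2, ey3] at key
    refine key.trans ?_
    rw [ey4]
  obtain ⟨v6, ex4⟩ : ∃ w, x • v4 = w := ⟨_, rfl⟩
  have ex6 : x • v6 = v3 := by
    have key := hx v3
    rw [ex3, ex4] at key
    refine key.trans ?_
    rfl
  obtain ⟨v7, ex5⟩ : ∃ w, x • v5 = w := ⟨_, rfl⟩
  have ey7 : y • v7 = v6 := by
    apply MulAction.injective x
    beta_reduce
    have key := hxy v3
    rw [ey3, ex5] at key
    refine key.trans ?_
    rw [ex6]
  obtain ⟨v8, ey6⟩ : ∃ w, y • v6 = w := ⟨_, rfl⟩
  have ex8 : x • v8 = v5 := by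
    have key := hxy v5
    rw [ey5, ex4, ey6] at key
    refine key.trans ?_
    rfl
  have ex7 : x • v7 = v8 := by
    apply MulAction.injective x
    beta_reduce
    apply MulAction.injective x
    beta_reduce
    have key := hx v7
    refine key.trans ?_
    rw [ex8, ex5]
  obtain ⟨v9, ey8⟩ : ∃ w, y • v8 = w := ⟨_, rfl⟩
  obtain ⟨v10, ex9⟩ : ∃ w, x • v9 = w := ⟨_, rfl⟩
  have ey10 : y • v10 = v7 := by
    apply MulAction.injective x
    beta_reduce
    have key := hxy v8
    rw [ey8, ex9] at key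
    refine key.trans ?_
    rw [ex7]
  have ey9 : y • v9 = v10 := by
    apply MulAction.injective y
    beta_reduce
    apply MulAction.injective y
    beta_reduce
    apply MulAction.injective y
    beta_reduce
    apply MulAction.injective y
    beta_reduce
    have key := hy v9
    refine key.trans ?_
    rw [ey10, ey7, ey6, ey8]
  obtain ⟨v11, ex10⟩ : ∃ w, x • v10 = w := ⟨_, rfl⟩
  have ex11 : x • v11 = v9 := by
    have key := hx v9
    rw [ex9, ex10] at key
    refine key.trans ?_
    rfl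
  have ey11 : y • v11 = v11 := by
    apply MulAction.injective x
    beta_reduce
    have key := hxy v9
    rw [ey9, ex10] at key
    refine key.trans ?_
    rw [ex11]
  let S : Finset (G ⧸ H) := [v0, v1, v2, v3, v4, v5, v6, v7, v8, v9, v10, v11].toFinset
  have hSx : ∀ v ∈ S, x • v ∈ S := by
    intro v hv
    simp only [S, List.mem_toFinset, List.mem_cons, List.not_mem_nil, or_false] at hv
    rcases hv with rfl | rfl | rfl | rfl | rfl | rfl | rfl | rfl | rfl | rfl | rfl | rfl <;>
      simp [S, ex0, ex1, ex2, ex3, ex4, ex5, ex6, ex7, ex8, ex9, ex10, ex11]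
  have hSy : ∀ v ∈ S, y • v ∈ S := by
    intro v hv
    simp only [S, List.mem_toFinset, List.mem_cons, List.not_mem_nil, or_false] at hv
    rcases hv with rfl | rfl | rfl | rfl | rfl | rfl | rfl | rfl | rfl | rfl | rfl | rfl <;>
      simp [S, ey0, ey1, ey2, ey3, ey4, ey5, ey6, ey7, ey8, ey9, ey10, ey11]
  have hstab : ∀ g : G, ∀ v ∈ S, g • v ∈ S := by
    intro g
    have hg : g ∈ Subgroup.closure ({x, y} : Set G) := hgen ▸ Subgroup.mem_top g
    induction hg using Subgroup.closure_induction with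
    | mem a ha => rcases ha with rfl | rfl <;> assumption
    | one => intro v hv; rwa [one_smul]
    | mul a b _ _ iha ihb => intro v hv; rw [mul_smul]; exact iha _ (ihb v hv)
    | inv a _ iha =>
      intro v hv
      have hinj : Set.InjOn (fun w => a • w) (S : Set (G ⧸ H)) := (MulAction.injective a).injOn
      obtain ⟨w, hw, hwv⟩ := Finset.surjOn_of_injOn_of_card_le (s := S) (t := S) (fun w => a • w)
        (fun w hw => iha w hw) hinj le_rfl hv
      rw [← hwv, inv_smul_smul]
      exact hw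
  have huniv : (Set.univ : Set (G ⧸ H)) ⊆ S := by
    intro v _
    obtain ⟨g, rfl⟩ := QuotientGroup.mk_surjective v
    have h := hstab g v0 (by simp [S])
    rw [← hv0] at h
    change ((g * 1 : G) : G ⧸ H) ∈ S at h
    rwa [mul_one] at h
  have hfin : Finite (G ⧸ H) := Set.finite_univ_iff.mp (S.finite_toSet.subset huniv)
  have hfy : IsOfFinOrder y := isOfFinOrder_iff_pow_eq_one.mpr ⟨5, by norm_num, hy0⟩
  have : Finite H := hfy.finite_zpowers
  have hfinG : Finite G := Finite.of_equiv _ (Subgroup.groupEquivQuotientProdSubgroup (s := H)).symm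
  refine ⟨hfinG, ?_⟩
  have h12 : Nat.card (G ⧸ H) ≤ 12 := by
    rw [← Nat.card_univ]
    refine (Nat.card_mono S.finite_toSet huniv).trans ?_
    rw [Nat.card_coe_set_eq, Set.ncard_coe_finset]
    exact List.toFinset_card_le _
  have h5 : Nat.card H ≤ 5 := by
    rw [hH, Nat.card_zpowers]
    exact orderOf_le_of_pow_eq_one (by norm_num) hy0
  rw [Subgroup.card_eq_card_quotient_mul_card_subgroup H]
  exact (Nat.mul_le_mul h12 h5).trans (by norm_num)

end CfsgLib.Present
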